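import Mathlib

/-!
# Uniform bounds over the points of a Noetherian ring
-/

set_option autoImplicit false

noncomputable section

universe u

namespace Groth.Agent.RadBoundLib

open MvPolynomial

/-- A bound which holds generically on every integral closed subscheme holds everywhere. -/
theorem bound_of_generic {A : Type u} [CommRing A] [IsNoetherianRing A]
    (P : ∀ (k : Type u) [Field k], (A →+* k) → ℕ → Prop)
    (mono : ∀ (k : Type u) [Field k] (φ : A →+* k) (D D' : ℕ), D ≤ D' → P k φ D → P k φ D')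
    (gen : ∀ J : Ideal A, J.IsPrime → ∃ f ∉ J, ∃ D, ∀ (k : Type u) [Field k] (φ : A →+* k),
      J ≤ RingHom.ker φ → φ f ≠ 0 → P k φ D) :
    ∃ D, ∀ (k : Type u) [Field k] (φ : A →+* k), P k φ D := by
  suffices h : ∀ J : Ideal A, ∃ D, ∀ (k : Type u) [Field k] (φ : A →+* k), J ≤ RingHom.ker φ → P k φ D by
    obtain ⟨D, hD⟩ := h ⊥
    exact ⟨D, fun k _ φ => hD k φ bot_le⟩
  intro J
  induction J using IsNoetherian.induction with
  | hgt J ih =>
    by_cases hJ : Ideal.IsPrime J
    · obtain ⟨f, hf, D, hD⟩ := gen J hJ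
      obtain ⟨D', hD'⟩ := ih (J ⊔ Ideal.span {f})
        (left_lt_sup.2 fun h => hf (h (Ideal.mem_span_singleton_self f)))
      refine ⟨max D D', fun k _ φ hφ => ?_⟩
      by_cases h : φ f = 0
      · exact mono k φ _ _ (le_max_right D D')
          (hD' k φ (sup_le hφ ((Ideal.span_singleton_le_iff_mem _).2 h)))
      · exact mono k φ _ _ (le_max_left D D') (hD k φ hφ h)
    · rw [Ideal.isPrime_iff] at hJ
      push Not at hJ
      by_cases htop : J = ⊤
      · exact ⟨0, fun k _ φ hφ => absurd (hφ (htop ▸ Submodule.mem_top : (1 : A) ∈ J)) (by simp [RingHom.mem_ker])⟩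
      obtain ⟨a, b, hab, ha, hb⟩ := hJ htop
      obtain ⟨D₁, h₁⟩ := ih (J ⊔ Ideal.span {a})
        (left_lt_sup.2 fun h => ha (h (Ideal.mem_span_singleton_self a)))
      obtain ⟨D₂, h₂⟩ := ih (J ⊔ Ideal.span {b})
        (left_lt_sup.2 fun h => hb (h (Ideal.mem_span_singleton_self b)))
      refine ⟨max D₁ D₂, fun k _ φ hφ => ?_⟩
      have h0 : φ a * φ b = 0 := by rw [← map_mul]; exact hφ hab
      rcases mul_eq_zero.1 h0 with h | h
      · exact mono k φ _ _ (le_max_left _ _) (h₁ k φ (sup_le hφ ((Ideal.span_singleton_le_iff_mem _).2 h)))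
      · exact mono k φ _ _ (le_max_right _ _) (h₂ k φ (sup_le hφ ((Ideal.span_singleton_le_iff_mem _).2 h)))

/-- The exponents of the monomials of degree at most `m`, and some more. -/
def box (N m : ℕ) : Finset (Fin N →₀ ℕ) :=
  Finset.Iic (Finsupp.equivFunOnFinite.symm fun _ => m)

theorem mem_box {k : Type u} [CommSemiring k] {N m : ℕ} {p : MvPolynomial (Fin N) k}
    (hp : p.totalDegree ≤ m) {α : Fin N →₀ ℕ} (hα : α ∈ p.support) : α ∈ box N m := by
  refine Finset.mem_Iic.2 fun j => ?_
  have h1 : α.sum (fun _ e => e) ≤ m := (le_totalDegree hα).trans hp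
  by_cases hj : j ∈ α.support
  · exact (Finset.single_le_sum (f := fun i => α i) (fun i _ => Nat.zero_le _) hj).trans h1
  · rw [Finsupp.notMem_support_iff.1 hj]; exact Nat.zero_le _

theorem sum_monomial_coeff {k : Type u} [CommSemiring k] {N m : ℕ} {p : MvPolynomial (Fin N) k}
    (hp : p.totalDegree ≤ m) : ∑ α ∈ box N m, monomial α (coeff α p) = p := by
  conv_rhs => rw [as_sum p]
  refine (Finset.sum_subset (fun α hα => mem_box hp hα) fun α _ hα => ?_).symm
  rw [notMem_support_iff.1 hα, map_zero]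

/-- Families of polynomials of bounded degree are specialisations of a universal one. -/
theorem exists_universal (ι : Type) [Finite ι] (N m : ℕ) :
    ∃ (A : Type u) (_ : CommRing A) (_ : IsNoetherianRing A) (G : ι → MvPolynomial (Fin N) A),
      ∀ (k : Type u) [Field k] (g : ι → MvPolynomial (Fin N) k), (∀ i, (g i).totalDegree ≤ m) →
        ∃ φ : A →+* k, ∀ i, map φ (G i) = g i := by
  refine ⟨MvPolynomial (ULift.{u} (ι × {α // α ∈ box N m})) ℤ, inferInstance, inferInstance,
    fun i => ∑ α ∈ (box N m).attach, monomial α.1 (X ⟨(i, α)⟩), fun k _ g hg => ?_⟩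
  refine ⟨eval₂Hom (Int.castRingHom k) fun x => coeff x.down.2.1 (g x.down.1), fun i => ?_⟩
  simp only [map_sum, map_monomial, eval₂Hom_X']
  rw [Finset.sum_attach (box N m) fun α => monomial α (coeff α (g i)), sum_monomial_coeff (hg i)]

theorem totalDegree_map_le' {R S : Type*} [CommSemiring R] [CommSemiring S] {σ : Type*} (f : R →+* S)
    (p : MvPolynomial σ R) : (map f p).totalDegree ≤ p.totalDegree :=
  Finset.sup_mono (support_map_subset f p)

end Groth.Agent.RadBoundLib
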