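import Mathlib
import Groth.Agent.GenFree.Algebra
import Groth.Agent.RadBoundLib.Universal

/-!
# Degree bounds for linear systems over polynomial rings over fields
-/

set_option autoImplicit false
set_option linter.unusedSectionVars false

noncomputable section

universe u

open scoped TensorProduct

namespace Groth.Agent.RadBoundLib

open MvPolynomial Groth.Agent.GenFree

/-- Where the cokernel is free, the kernel commutes with base change. -/
theorem ker_baseChange_le {A M M' : Type u} [CommRing A] [AddCommGroup M] [Module A M]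
    [AddCommGroup M'] [Module A M'] [Module.Free A M'] (μ : M →ₗ[A] M') {f : A}
    (hf : FreeAt A (M' ⧸ LinearMap.range μ) f) (k : Type u) [Field k] [Algebra A k]
    (hk : algebraMap A k f ≠ 0) :
    LinearMap.ker (μ.baseChange k) ≤ Submodule.span k ((fun x => (1 : k) ⊗ₜ[A] x) '' (LinearMap.ker μ : Set M)) := by
  let B := Localization.Away f
  letI : Algebra B k := (IsLocalization.Away.lift f (isUnit_iff_ne_zero.2 hk)).toAlgebra
  haveI : IsScalarTower A B k := .of_algebraMap_eq fun r => (IsLocalization.Away.lift_eq f _ r).symm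
  haveI : Module.Free B (B ⊗[A] (M' ⧸ LinearMap.range μ)) := hf
  let μB := μ.baseChange B
  let q := (LinearMap.range μ).mkQ.baseChange B
  have hq : Function.Surjective q := LinearMap.lTensor_surjective B (Submodule.mkQ_surjective _)
  have hex : Function.Exact μB q :=
    lTensor_exact B (LinearMap.exact_map_mkQ_range μ) (Submodule.mkQ_surjective _)
  obtain ⟨s, hs⟩ := Module.projective_lifting_property q LinearMap.id hq
  let pr : B ⊗[A] M' →ₗ[B] LinearMap.range μB :=
    LinearMap.codRestrict _ (LinearMap.id - s ∘ₗ q) fun z => (hex _).1 (by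
      show q (z - s (q z)) = 0
      rw [map_sub, show q (s (q z)) = q z from LinearMap.congr_fun hs (q z), sub_self])
  obtain ⟨ρ, hρ⟩ := Module.projective_lifting_property μB.rangeRestrict pr μB.surjective_rangeRestrict
  have hρ' : ∀ w, μB (ρ (μB w)) = μB w := fun w => by
    have h1 : μB (ρ (μB w)) = μB w - s (q (μB w)) := congrArg Subtype.val (LinearMap.congr_fun hρ (μB w))
    rw [h1, show q (μB w) = 0 from hex.apply_apply_eq_zero w, map_zero, sub_zero]
  let E : B ⊗[A] M →ₗ[B] B ⊗[A] M := LinearMap.id - ρ ∘ₗ μB
  let eM := TensorProduct.AlgebraTensorModule.cancelBaseChange A B k k M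
  let eM' := TensorProduct.AlgebraTensorModule.cancelBaseChange A B k k M'
  have hnat : ∀ Y, eM' (μB.baseChange k Y) = μ.baseChange k (eM Y) := fun Y => by
    induction Y using TensorProduct.induction_on with
    | zero => simp
    | add a b ha hb => simp only [map_add, ha, hb]
    | tmul c z =>
      induction z using TensorProduct.induction_on with
      | zero => simp
      | add a b ha hb => simp only [TensorProduct.tmul_add, map_add, ha, hb]
      | tmul b m => simp [μB, eM, eM']
  set V := Submodule.span k ((fun x => (1 : k) ⊗ₜ[A] x) '' (LinearMap.ker μ : Set M))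
  have hsub : ∀ (c : k) (z : B ⊗[A] M), μB z = 0 → eM (c ⊗ₜ z) ∈ V := fun c z hz => by
    obtain ⟨w, rfl⟩ := (Module.Flat.lTensor_exact B (LinearMap.exact_subtype_ker_map μ) z).1 hz
    clear hz
    induction w using TensorProduct.induction_on with
    | zero => simp
    | add a b ha hb => simp only [map_add, TensorProduct.tmul_add]; exact add_mem ha hb
    | tmul b x =>
      simp only [LinearMap.lTensor_tmul, Submodule.subtype_apply, eM,
        TensorProduct.AlgebraTensorModule.cancelBaseChange_tmul]
      rw [show (b • c) ⊗ₜ[A] (x : M) = (b • c) • ((1 : k) ⊗ₜ[A] (x : M)) by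
        rw [TensorProduct.smul_tmul', smul_eq_mul, mul_one]]
      exact Submodule.smul_mem _ _ (Submodule.subset_span ⟨x, x.2, rfl⟩)
  intro y hy
  let Y := eM.symm y
  have hY : μB.baseChange k Y = 0 := by
    apply eM'.injective
    rw [hnat, map_zero, eM.apply_symm_apply]
    exact hy
  have hYE : E.baseChange k Y = Y := by
    simp only [E, LinearMap.baseChange_sub, LinearMap.baseChange_id, LinearMap.baseChange_comp,
      LinearMap.sub_apply, LinearMap.comp_apply, hY, map_zero, LinearMap.id_coe, id_eq, sub_zero]
  have hgoal : ∀ W, eM (E.baseChange k W) ∈ V := fun W => by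
    induction W using TensorProduct.induction_on with
    | zero => simp
    | add a b ha hb => simp only [map_add]; exact add_mem ha hb
    | tmul c z =>
      rw [LinearMap.baseChange_tmul]
      exact hsub c _ (by simp [E, hρ'])
  have h := hgoal Y
  rw [hYE, eM.apply_symm_apply] at h
  exact h

variable {N a b : ℕ}

/-- The kernel of the system `M` over `k` is spanned by solutions of degree at most `D`. -/
def KerSpanned (k : Type u) [Field k] (M : Matrix (Fin a) (Fin b) (MvPolynomial (Fin N) k)) (D : ℕ) : Prop :=
  ∀ x : Fin b → MvPolynomial (Fin N) k, M.mulVec x = 0 →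
    x ∈ Submodule.span (MvPolynomial (Fin N) k)
      {z : Fin b → MvPolynomial (Fin N) k | (∀ j, (z j).totalDegree ≤ D) ∧ M.mulVec z = 0}

theorem KerSpanned.mono {k : Type u} [Field k] {M : Matrix (Fin a) (Fin b) (MvPolynomial (Fin N) k)} {D D' : ℕ}
    (h : D ≤ D') (hM : KerSpanned k M D) : KerSpanned k M D' := fun x hx =>
  (Submodule.span_le.2 fun z hz => Submodule.subset_span
    (show _ ∧ _ from ⟨fun j => (hz.1 j).trans h, hz.2⟩)) (hM x hx)

theorem kerSpanned_generic {A : Type u} [CommRing A] [IsDomain A] [IsNoetherianRing A]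
    (M : Matrix (Fin a) (Fin b) (MvPolynomial (Fin N) A)) :
    ∃ f : A, f ≠ 0 ∧ ∃ D, ∀ (k : Type u) [Field k] (φ : A →+* k), φ f ≠ 0 →
      KerSpanned k (M.map (map φ)) D := by
  classical
  let S := MvPolynomial (Fin N) A
  obtain ⟨f, -, hf0, hfree, -⟩ := GenFree.exists_module (R := A) (S := S)
    (M := (Fin a → S) ⧸ LinearMap.range M.mulVecLin) (g := 1) one_ne_zero
  obtain ⟨W, hW⟩ := IsNoetherian.noetherian (LinearMap.ker M.mulVecLin)
  refine ⟨f, hf0, W.sup fun w => Finset.univ.sup fun j => (w j).totalDegree, fun k _ φ hφ x hx => ?_⟩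
  letI : Algebra A k := φ.toAlgebra
  let μ : (Fin b → S) →ₗ[A] (Fin a → S) := M.mulVecLin.restrictScalars A
  have hfree' : FreeAt A ((Fin a → S) ⧸ LinearMap.range μ) f := by
    haveI : Module.Free (Localization.Away f) (Localization.Away f ⊗[A] ((Fin a → S) ⧸ LinearMap.range M.mulVecLin)) := hfree
    exact Module.Free.of_equiv
      ((Submodule.Quotient.restrictScalarsEquiv A (LinearMap.range M.mulVecLin)).symm.baseChange A (Localization.Away f) _ _)
  let bas : ∀ (R : Type u) [CommRing R] (c : ℕ), Module.Basis (Σ _ : Fin c, Fin N →₀ ℕ) R (Fin c → MvPolynomial (Fin N) R) :=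
    fun R _ c => Pi.basis fun _ => basisMonomials (Fin N) R
  let st : ∀ c : ℕ, (Fin c → S) →ₗ[A] (Fin c → MvPolynomial (Fin N) k) := fun c =>
    LinearMap.pi fun j => (MvPolynomial.mapAlgHom (Algebra.ofId A k)).toLinearMap ∘ₗ LinearMap.proj j
  have hst : ∀ c z j, st c z j = map φ (z j) := fun c z j => rfl
  let e : ∀ c : ℕ, k ⊗[A] (Fin c → S) ≃ₗ[k] (Fin c → MvPolynomial (Fin N) k) := fun c =>
    ((bas A c).baseChange k).equiv (bas k c) (Equiv.refl _)
  have he : ∀ c z, e c (1 ⊗ₜ z) = st c z := fun c z => by
    have : (((e c).toLinearMap.restrictScalars A) ∘ₗ TensorProduct.mk A k (Fin c → S) 1) = st c := by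
      refine (bas A c).ext fun i => ?_
      show e c (1 ⊗ₜ bas A c i) = _
      rw [← Module.Basis.baseChange_apply, show e c ((bas A c).baseChange k i) = bas k c i from
        Module.Basis.equiv_apply _ _ _ _]
      funext j
      rw [hst]
      simp only [bas, Pi.basis_apply, coe_basisMonomials, Pi.single_apply]
      split_ifs <;> simp
    exact LinearMap.congr_fun this z
  have hcomm : ∀ Y, e a (μ.baseChange k Y) = (M.map (map φ)).mulVec (e b Y) := fun Y => by
    induction Y using TensorProduct.induction_on with
    | zero => simp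
    | add p q hp hq => simp only [map_add, hp, hq, Matrix.mulVec_add]
    | tmul c z =>
      rw [← mul_one c, ← smul_eq_mul, ← TensorProduct.smul_tmul', map_smul, map_smul, map_smul,
        LinearMap.baseChange_tmul, he, he, Matrix.mulVec_smul]
      congr 1
      funext i
      rw [hst]
      exact RingHom.map_mulVec (map φ) M z i
  have hker : (e b).symm x ∈ LinearMap.ker (μ.baseChange k) := by
    rw [LinearMap.mem_ker]
    apply (e a).injective
    rw [hcomm, LinearEquiv.apply_symm_apply, hx, map_zero]
  set T := {z : Fin b → MvPolynomial (Fin N) k |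
    (∀ j, (z j).totalDegree ≤ W.sup fun w => Finset.univ.sup fun j => (w j).totalDegree) ∧
      (M.map (map φ)).mulVec z = 0}
  have hV : ∀ v ∈ LinearMap.ker M.mulVecLin, st b v ∈ Submodule.span (MvPolynomial (Fin N) k) T := fun v hv => by
    rw [← hW] at hv
    induction hv using Submodule.span_induction with
    | mem w hw =>
      refine Submodule.subset_span ⟨fun j => ?_, ?_⟩
      · rw [hst]
        refine (totalDegree_map_le' φ (w j)).trans ?_
        exact (Finset.le_sup (f := fun j => (w j).totalDegree) (Finset.mem_univ j)).trans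
          (Finset.le_sup (f := fun w => Finset.univ.sup fun j => (w j).totalDegree) hw)
      · funext i
        have h0 : M.mulVec w = 0 := LinearMap.mem_ker.1 (hW ▸ Submodule.subset_span hw : w ∈ LinearMap.ker M.mulVecLin)
        have := RingHom.map_mulVec (map φ) M w i
        rw [h0] at this
        rw [show st b w = fun x => map φ (w x) from funext (hst b w)]
        simpa [Function.comp_def] using this.symm
    | zero => simp
    | add p q _ _ hp hq => rw [map_add]; exact add_mem hp hq
    | smul c p _ hp =>
      rw [show st b (c • p) = map φ c • st b p from funext fun j => by simp [hst]]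
      exact Submodule.smul_mem _ _ hp
  have hmem := ker_baseChange_le μ hfree' k hφ hker
  have := Submodule.mem_map_of_mem (f := (e b).toLinearMap) hmem
  rw [Submodule.map_span, LinearEquiv.coe_coe, LinearEquiv.apply_symm_apply] at this
  refine (Submodule.span_le (p := (Submodule.span (MvPolynomial (Fin N) k) T).restrictScalars k)).2 ?_ this
  rintro _ ⟨_, ⟨v, hv, rfl⟩, rfl⟩
  show e b (1 ⊗ₜ v) ∈ _
  rw [he]
  exact hV v hv

theorem exists_kerBound (N a b δ : ℕ) : ∃ D, ∀ (k : Type u) [Field k]
    (M : Matrix (Fin a) (Fin b) (MvPolynomial (Fin N) k)), (∀ i j, (M i j).totalDegree ≤ δ) → KerSpanned k M D := by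
  obtain ⟨A, _, _, G, hG⟩ := exists_universal.{u} (Fin a × Fin b) N δ
  let MA : Matrix (Fin a) (Fin b) (MvPolynomial (Fin N) A) := Matrix.of fun i j => G (i, j)
  obtain ⟨D, hD⟩ := bound_of_generic (A := A) (fun k _ φ D => KerSpanned k (MA.map (map φ)) D)
    (fun k _ φ D D' h hM => hM.mono h) fun J hJ => by
      obtain ⟨f, hf, D, hD⟩ := kerSpanned_generic (A := A ⧸ J) (MA.map (map (Ideal.Quotient.mk J)))
      obtain ⟨f, rfl⟩ := Ideal.Quotient.mk_surjective f
      refine ⟨f, fun h => hf (Ideal.Quotient.eq_zero_iff_mem.2 h), D, fun k _ φ hJφ hfφ => ?_⟩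
      have := hD k (Ideal.Quotient.lift J φ fun x hx => RingHom.mem_ker.1 (hJφ hx)) hfφ
      convert this using 1
      ext i j
      simp [Matrix.map_apply, map_map, Ideal.Quotient.lift_comp_mk]
  refine ⟨D, fun k _ M hM => ?_⟩
  obtain ⟨φ, hφ⟩ := hG k (fun p => M p.1 p.2) fun p => hM p.1 p.2
  convert hD k φ using 1
  ext i j
  simp [MA, Matrix.map_apply, hφ]

end Groth.Agent.RadBoundLib
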