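import Mathlib
import Groth.Agent.NearGen.GeomRed
import Groth.Agent.GeomRedFieldLib.Basic
import Groth.Agent.RadBoundLib.Universal
import Groth.Agent.RadBoundLib.KerBound

/-!
# Radicals of bounded degree, generically
-/

set_option autoImplicit false
set_option linter.unusedSectionVars false

noncomputable section

universe u

open scoped TensorProduct

namespace Groth.Agent.RadBoundLib

open MvPolynomial

variable {N : ℕ}

/-- The radical of the ideal generated by `g` is generated in degree at most `D`. -/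
def RadBounded (k : Type u) [Field k] {ι : Type} (g : ι → MvPolynomial (Fin N) k) (D : ℕ) : Prop :=
  ∃ S' : Set (MvPolynomial (Fin N) k), (∀ q ∈ S', q.totalDegree ≤ D) ∧
    Ideal.span S' = (Ideal.span (Set.range g)).radical

theorem RadBounded.mono {k : Type u} [Field k] {ι : Type} {g : ι → MvPolynomial (Fin N) k} {D D' : ℕ}
    (h : D ≤ D') : RadBounded k g D → RadBounded k g D' :=
  fun ⟨S', h1, h2⟩ => ⟨S', fun q hq => (h1 q hq).trans h, h2⟩

/-- A tensor product with a quotient of a polynomial ring. -/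
def tensorQuot (R : Type u) [CommRing R] (κ : Type u) [CommRing κ] [Algebra R κ] (a : Ideal (MvPolynomial (Fin N) R)) :
    κ ⊗[R] (MvPolynomial (Fin N) R ⧸ a) ≃ₐ[κ] MvPolynomial (Fin N) κ ⧸ a.map (map (algebraMap R κ)) :=
  (Algebra.TensorProduct.tensorQuotientEquiv κ (MvPolynomial (Fin N) R) κ a).trans
    (Ideal.quotientEquivAlg _ _ (MvPolynomial.algebraTensorAlgEquiv R κ) (by
      refine Eq.trans ?_ (Ideal.map_map _ _).symm
      congr 1
      refine MvPolynomial.ringHom_ext (fun r => ?_) fun j => ?_ <;>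
        simp [Algebra.TensorProduct.includeRight, map_smul]))

theorem isReduced_tensor_iff (R : Type u) [CommRing R] (κ : Type u) [CommRing κ] [Algebra R κ]
    (a : Ideal (MvPolynomial (Fin N) R)) :
    IsReduced (κ ⊗[R] (MvPolynomial (Fin N) R ⧸ a)) ↔ (a.map (map (algebraMap R κ))).IsRadical := by
  rw [Ideal.isRadical_iff_quotient_reduced]
  exact ⟨fun _ => isReduced_of_injective (tensorQuot R κ a).symm (tensorQuot R κ a).symm.injective,
    fun _ => isReduced_of_injective (tensorQuot R κ a) (tensorQuot R κ a).injective⟩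

theorem isGeometricallyReduced_baseChange (R K' Kb : Type u) [CommRing R] [Field K'] [Field Kb] [Algebra R K']
    [Algebra R Kb] [Algebra K' Kb] [IsScalarTower R K' Kb] [IsAlgClosure K' Kb] (B : Type u) [CommRing B]
    [Algebra R B] [IsReduced (Kb ⊗[R] B)] : Algebra.IsGeometricallyReduced K' (K' ⊗[R] B) := by
  rw [Algebra.isGeometricallyReduced_field_iff]
  haveI : IsReduced (Kb ⊗[K'] (K' ⊗[R] B)) :=
    isReduced_of_injective _ (Algebra.TensorProduct.cancelBaseChange R K' Kb Kb B).injective
  exact isReduced_of_injective _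
    (Algebra.TensorProduct.congr (IsAlgClosure.equiv K' (AlgebraicClosure K') Kb) AlgEquiv.refl).injective

/-- Radicality of the geometric generic fibre spreads out. -/
theorem exists_radical_fibre {A' : Type u} [CommRing A'] [IsDomain A'] (Kb : Type u) [Field Kb] [IsAlgClosed Kb]
    [Algebra A' Kb] [Algebra.IsAlgebraic A' Kb] (a' : Ideal (MvPolynomial (Fin N) A'))
    (hinj : Function.Injective (algebraMap A' Kb)) (hrad : (a'.map (map (algebraMap A' Kb))).IsRadical) :
    ∃ r : A', r ≠ 0 ∧ ∀ (κ : Type u) [Field κ] (φ : A' →+* κ), φ r ≠ 0 → (a'.map (map φ)).IsRadical := by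
  haveI : FaithfulSMul A' Kb := (faithfulSMul_iff_algebraMap_injective _ _).2 hinj
  let K' := FractionRing A'
  letI : Algebra K' Kb := FractionRing.liftAlgebra A' Kb
  haveI : IsScalarTower A' K' Kb := FractionRing.isScalarTower_liftAlgebra A' Kb
  haveI : Algebra.IsAlgebraic K' Kb :=
    (IsFractionRing.comap_isAlgebraic_iff (A := A') (K := K') (C := Kb)).1 inferInstance
  haveI hred : IsReduced (Kb ⊗[A'] (MvPolynomial (Fin N) A' ⧸ a')) :=
    (isReduced_tensor_iff A' Kb a').2 hrad
  haveI : IsAlgClosure K' Kb := ⟨inferInstance, inferInstance⟩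
  haveI hgr := isGeometricallyReduced_baseChange A' K' Kb (MvPolynomial (Fin N) A' ⧸ a')
  obtain ⟨r, hr0, hr⟩ := NearGen.exists_isReduced (R := A') (B := MvPolynomial (Fin N) A' ⧸ a') K'
    fun L _ _ => GeomRedFieldLib.forall_of_isGeometricallyReduced L
  refine ⟨r, hr0, fun κ _ φ hφ => ?_⟩
  letI : Algebra A' κ := φ.toAlgebra
  exact (isReduced_tensor_iff A' κ a').1 (hr κ hφ)

variable {A : Type u} [CommRing A] [IsDomain A] [IsNoetherianRing A] {s : ℕ}

/-- Generically, the radical is the image of finitely many polynomials over a finite extension. -/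
theorem exists_radical_model (G : Fin s → MvPolynomial (Fin N) A) :
    ∃ (A' : Type u) (_ : CommRing A') (_ : IsDomain A') (_ : Algebra A A') (_ : Module.Finite A A'),
      Function.Injective (algebraMap A A') ∧ ∃ (L : ℕ) (h : Fin L → MvPolynomial (Fin N) A') (f : A'), f ≠ 0 ∧
        ∀ (κ : Type u) [Field κ] (φ : A' →+* κ), φ f ≠ 0 →
          Ideal.span (Set.range fun l => map φ (h l)) =
            (Ideal.span (Set.range fun j => map φ (map (algebraMap A A') (G j)))).radical := by
  classical
  let K := FractionRing A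
  let Kb := AlgebraicClosure K
  haveI : Algebra.IsAlgebraic A K := IsLocalization.isAlgebraic K (nonZeroDivisors A)
  haveI : Algebra.IsAlgebraic A Kb := Algebra.IsAlgebraic.trans A K Kb
  have hinjA : Function.Injective (algebraMap A Kb) := by
    rw [IsScalarTower.algebraMap_eq A K Kb]
    exact (algebraMap K Kb).injective.comp (IsFractionRing.injective A K)
  let GK : Fin s → MvPolynomial (Fin N) Kb := fun j => map (algebraMap A Kb) (G j)
  obtain ⟨hs, hhs⟩ := IsNoetherian.noetherian ((Ideal.span (Set.range GK)).radical)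
  obtain ⟨E, hE⟩ := Ideal.exists_radical_pow_le_of_fg (Ideal.span (Set.range GK)) (IsNoetherian.noetherian _)
  let H : Fin hs.card → MvPolynomial (Fin N) Kb := fun l => (hs.equivFin.symm l).1
  have hH : Ideal.span (Set.range H) = (Ideal.span (Set.range GK)).radical := by
    rw [show Set.range H = (hs : Set _) by
      rw [show H = Subtype.val ∘ hs.equivFin.symm from rfl, Set.range_comp, Equiv.range_eq_univ, Set.image_univ,
        Subtype.range_coe_subtype, Finset.setOf_mem]]
    exact hhs
  choose c hc using fun l => Ideal.mem_span_range_iff_exists_fun.1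
    (hE (Ideal.pow_mem_pow (hH ▸ Ideal.subset_span ⟨l, rfl⟩ : H l ∈ (Ideal.span (Set.range GK)).radical) E))
  choose d hd using fun j => Ideal.mem_span_range_iff_exists_fun.1
    (hH.symm ▸ Ideal.le_radical (Ideal.subset_span ⟨j, rfl⟩) : GK j ∈ Ideal.span (Set.range H))
  let cs : Finset Kb := (Finset.univ.biUnion fun l => (H l).coeffs ∪ Finset.univ.biUnion fun j => (c l j).coeffs) ∪
    Finset.univ.biUnion fun j => Finset.univ.biUnion fun l => (d j l).coeffs
  obtain ⟨y, hy0, hy⟩ := Algebra.IsAlgebraic.exists_integral_multiples A cs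
  let A' : Subalgebra A Kb := Algebra.adjoin A ((fun z => y • z) '' (cs : Set Kb))
  haveI : Module.Finite A A' := Module.Finite.iff_fg.2 (fg_adjoin_of_finite (cs.finite_toSet.image _)
    (by rintro _ ⟨z, hz, rfl⟩; exact hy z hz))
  have hlift : ∀ p : MvPolynomial (Fin N) Kb, p.coeffs ⊆ cs →
      ∃ p' : MvPolynomial (Fin N) A', map A'.val.toRingHom p' = C (algebraMap A Kb y) * p := fun p hp => by
    refine RingHom.mem_range.1 (mem_range_map_iff_coeffs_subset.2 fun z hz => ?_)
    obtain ⟨α, hα, rfl⟩ := mem_coeffs_iff.1 hz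
    rw [coeff_C_mul]
    have hne : coeff α p ≠ 0 := fun h0 => by
      rw [mem_support_iff, coeff_C_mul, h0, mul_zero] at hα
      exact hα rfl
    refine ⟨⟨_, Algebra.subset_adjoin ⟨coeff α p, hp (mem_coeffs_iff.2 ⟨α, mem_support_iff.2 hne, rfl⟩), rfl⟩⟩, ?_⟩
    exact Algebra.smul_def y (coeff α p)
  choose h' hh' using fun l => hlift (H l) (Finset.subset_union_left.trans'
    ((Finset.subset_biUnion_of_mem (u := fun l => (H l).coeffs ∪ Finset.univ.biUnion fun j => (c l j).coeffs)
      (Finset.mem_univ l)).trans' Finset.subset_union_left))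
  choose c' hc' using fun l j => hlift (c l j) (fun z hz => Finset.mem_union_left _ (Finset.mem_biUnion.2
    ⟨l, Finset.mem_univ l, Finset.mem_union_right _ (Finset.mem_biUnion.2 ⟨j, Finset.mem_univ j, hz⟩)⟩))
  choose d' hd' using fun j l => hlift (d j l) (fun z hz => Finset.mem_union_right _ (Finset.mem_biUnion.2
    ⟨j, Finset.mem_univ j, Finset.mem_biUnion.2 ⟨l, Finset.mem_univ l, hz⟩⟩))
  have hval : Function.Injective (map A'.val.toRingHom : MvPolynomial (Fin N) A' → MvPolynomial (Fin N) Kb) :=
    map_injective _ Subtype.val_injective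
  set yC : MvPolynomial (Fin N) A' := C (algebraMap A A' y)
  let G' : Fin s → MvPolynomial (Fin N) A' := fun j => map (algebraMap A A') (G j)
  have hG' : ∀ j, map A'.val.toRingHom (G' j) = GK j := fun j => by
    rw [map_map]; rfl
  have hyC : map A'.val.toRingHom yC = C (algebraMap A Kb y) := by simp only [yC, map_C]; rfl
  have rel1 : ∀ l, yC * h' l ^ E = yC ^ E * ∑ j, c' l j * G' j := fun l => hval (by
    simp only [map_mul, map_pow, map_sum, hh', hc', hG', hyC, mul_pow, mul_assoc, ← Finset.mul_sum, hc l]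
    ring)
  have rel2 : ∀ j, yC ^ 2 * G' j = ∑ l, d' j l * h' l := fun j => hval (by
    simp only [map_mul, map_pow, map_sum, hh', hd', hG', hyC]
    rw [← hd j, Finset.mul_sum]
    exact Finset.sum_congr rfl fun l _ => by ring)
  have hyA : algebraMap A A' y ≠ 0 := fun h0 => hy0 (hinjA (by
    rw [map_zero, IsScalarTower.algebraMap_apply A A' Kb, h0, map_zero]))
  let a' : Ideal (MvPolynomial (Fin N) A') := Ideal.span (Set.range h')
  haveI : Algebra.IsAlgebraic A' Kb := Algebra.IsAlgebraic.extendScalars (R := A) (S := A') (A := Kb)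
    (fun u v huv => hinjA (congrArg Subtype.val huv))
  obtain ⟨r, hr0, hr⟩ := exists_radical_fibre (A' := A') Kb a' Subtype.val_injective (by
    show (a'.map (map A'.val.toRingHom)).IsRadical
    have hu : IsUnit (C (algebraMap A Kb y) : MvPolynomial (Fin N) Kb) :=
      (isUnit_iff_ne_zero.2 fun h0 => hy0 (hinjA (h0.trans (map_zero _).symm))).map C
    rw [Ideal.map_span, ← Set.range_comp, show (map A'.val.toRingHom : _ →+* _) ∘ h' =
      fun l => C (algebraMap A Kb y) * H l from funext hh']
    rw [show Ideal.span (Set.range fun l => C (algebraMap A Kb y) * H l) = Ideal.span (Set.range H) from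
      le_antisymm (Ideal.span_le.2 (by rintro _ ⟨l, rfl⟩; exact Ideal.mul_mem_left _ _ (Ideal.subset_span ⟨l, rfl⟩)))
        (Ideal.span_le.2 (by
          rintro _ ⟨l, rfl⟩
          obtain ⟨v, hv⟩ := hu
          rw [show H l = ↑v⁻¹ * (C (algebraMap A Kb y) * H l) by rw [← hv, ← mul_assoc, Units.inv_mul, one_mul]]
          exact Ideal.mul_mem_left _ _ (Ideal.subset_span ⟨l, rfl⟩))), hH]
    exact Ideal.radical_isRadical _)
  refine ⟨A', inferInstance, inferInstance, inferInstance, inferInstance, (fun u v huv => hinjA (congrArg Subtype.val huv)),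
    _, h', r * algebraMap A A' y, mul_ne_zero hr0 hyA, fun κ _ φ hφ => ?_⟩
  rw [map_mul, mul_ne_zero_iff] at hφ
  have hrad : (a'.map (map φ)).IsRadical := hr κ φ hφ.1
  rw [Ideal.map_span, ← Set.range_comp, Function.comp_def] at hrad
  have hunit : IsUnit (map φ yC) := by
    simp only [yC, map_C]
    exact (isUnit_iff_ne_zero.2 hφ.2).map C
  refine le_antisymm (Ideal.span_le.2 ?_) ?_
  · rintro _ ⟨l, rfl⟩
    refine ⟨E, (Ideal.unit_mul_mem_iff_mem _ hunit).1 ?_⟩
    rw [← map_pow, ← map_mul, rel1, map_mul, map_sum]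
    refine Ideal.mul_mem_left _ _ (Ideal.sum_mem _ fun j _ => ?_)
    rw [map_mul]
    exact Ideal.mul_mem_left _ _ (Ideal.subset_span ⟨j, rfl⟩)
  · refine hrad.radical_le_iff.2 (Ideal.span_le.2 ?_)
    rintro _ ⟨j, rfl⟩
    refine (Ideal.unit_mul_mem_iff_mem _ (hunit.pow 2)).1 ?_
    rw [← map_pow, ← map_mul, show map (algebraMap A A') (G j) = G' j from rfl, rel2, map_sum]
    refine Ideal.sum_mem _ fun l _ => ?_
    rw [map_mul]
    exact Ideal.mul_mem_left _ _ (Ideal.subset_span ⟨l, rfl⟩)

/-- A point of `A` extends to a finite extension. -/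
theorem exists_point {A' : Type u} [CommRing A'] [IsDomain A'] [Algebra A A'] [Module.Finite A A']
    (hinj : Function.Injective (algebraMap A A')) (k : Type u) [Field k] (φ : A →+* k) :
    ∃ (k' : Type u) (_ : Field k') (_ : Algebra k k') (φ' : A' →+* k'), FiniteDimensional k k' ∧
      Module.finrank k k' ≤ (Module.Finite.exists_fin (R := A) (M := A')).choose ∧
      ∀ a, φ' (algebraMap A A' a) = algebraMap k k' (φ a) := by
  classical
  let Ω := AlgebraicClosure k
  haveI : Algebra.IsIntegral A A' := Algebra.IsIntegral.of_finite _ _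
  haveI : (RingHom.ker φ).IsPrime := RingHom.ker_isPrime _
  obtain ⟨Q, -, hQ⟩ := Ideal.exists_ideal_over_prime_of_isIntegral (RingHom.ker φ) (⊥ : Ideal A')
    (by rw [Ideal.comap_bot_of_injective (algebraMap A A') hinj]; exact bot_le)
  haveI := hQ.1
  let φΩ := (algebraMap k Ω).comp φ
  have hker : RingHom.ker φΩ = RingHom.ker φ :=
    RingHom.ker_comp_of_injective φ (algebraMap k Ω).injective
  haveI : (RingHom.ker φΩ).IsPrime := RingHom.ker_isPrime _
  letI : Algebra (A ⧸ RingHom.ker φΩ) Ω := (RingHom.kerLift φΩ).toAlgebra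
  haveI : FaithfulSMul (A ⧸ RingHom.ker φΩ) Ω :=
    (faithfulSMul_iff_algebraMap_injective _ _).mpr (RingHom.kerLift_injective φΩ)
  haveI : Q.LiesOver (RingHom.ker φΩ) := ⟨by rw [hker]; exact hQ.2.symm⟩
  let ψ : (A' ⧸ Q) →ₐ[A ⧸ RingHom.ker φΩ] Ω := IsAlgClosed.lift
  let χ : A' →+* Ω := ψ.toRingHom.comp (Ideal.Quotient.mk Q)
  have hχ : ∀ a, χ (algebraMap A A' a) = algebraMap k Ω (φ a) := fun a =>
    ψ.commutes (Ideal.Quotient.mk _ a)
  obtain ⟨w, hw⟩ := (Module.Finite.exists_fin (R := A) (M := A')).choose_spec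
  let k' : IntermediateField k Ω := IntermediateField.adjoin k (Set.range χ)
  have hspan : ∀ x, χ x ∈ Submodule.span k (Set.range (χ ∘ w)) := fun x => by
    obtain ⟨co, rfl⟩ := (Submodule.mem_span_range_iff_exists_fun A).1 (by rw [hw]; trivial : x ∈ Submodule.span A (Set.range w))
    rw [map_sum]
    refine Submodule.sum_mem _ fun i _ => ?_
    rw [Algebra.smul_def, map_mul, hχ, ← Algebra.smul_def]
    exact Submodule.smul_mem _ _ (Submodule.subset_span ⟨i, rfl⟩)
  have hle : k'.toSubalgebra.toSubmodule ≤ Submodule.span k (Set.range (χ ∘ w)) := by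
    rw [IntermediateField.adjoin_toSubalgebra_of_isAlgebraic fun x _ => Algebra.IsAlgebraic.isAlgebraic x,
      Algebra.adjoin_eq_span, Submodule.span_le, ← RingHom.coe_range]
    intro z hz
    obtain ⟨x, rfl⟩ := (Submonoid.closure_le.2 (le_refl ((χ.range.toSubmonoid : Submonoid Ω) : Set Ω)) hz :
      z ∈ χ.range.toSubmonoid)
    exact hspan x
  haveI hfd : FiniteDimensional k (Submodule.span k (Set.range (χ ∘ w))) :=
    FiniteDimensional.span_of_finite k (Set.finite_range _)
  haveI : FiniteDimensional k k'.toSubalgebra.toSubmodule := Submodule.finiteDimensional_of_le hle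
  refine ⟨k', inferInstance, inferInstance,
    χ.codRestrict k' fun x => IntermediateField.subset_adjoin k _ ⟨x, rfl⟩,
    (inferInstance : FiniteDimensional k k'.toSubalgebra.toSubmodule), ?_, fun a => Subtype.ext (hχ a)⟩
  refine (Submodule.finrank_mono hle : Module.finrank k k'.toSubalgebra.toSubmodule ≤ _).trans ?_
  exact (finrank_range_le_card _).trans (Fintype.card_fin _).le

/-- Apply an additive map to the coefficients. -/
def mapCoeff {S T : Type u} [CommSemiring S] [CommSemiring T] {σ : Type} (g : S →+ T) :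
    MvPolynomial σ S → MvPolynomial σ T :=
  fun p => ∑ α ∈ p.support, monomial α (g (coeff α p))

theorem coeff_mapCoeff {S T : Type u} [CommSemiring S] [CommSemiring T] {σ : Type} (g : S →+ T)
    (p : MvPolynomial σ S) (α : σ →₀ ℕ) : coeff α (mapCoeff g p) = g (coeff α p) := by
  classical
  rw [mapCoeff, coeff_sum, Finset.sum_eq_single α (fun β _ hne => by rw [coeff_monomial, if_neg hne])
    (fun hα => by rw [notMem_support_iff.1 hα, map_zero]; simp), coeff_monomial, if_pos rfl]

/-- Intersecting a bounded ideal with the polynomials over a subfield. -/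
theorem exists_comapBound (N L d δ : ℕ) : ∃ D, ∀ (k k' : Type u) [Field k] [Field k'] [Algebra k k']
    [FiniteDimensional k k'], Module.finrank k k' ≤ d →
    ∀ h : Fin L → MvPolynomial (Fin N) k', (∀ l, (h l).totalDegree ≤ δ) →
      ∃ S' : Set (MvPolynomial (Fin N) k), (∀ q ∈ S', q.totalDegree ≤ D) ∧
        Ideal.span S' = (Ideal.span (Set.range h)).comap (map (algebraMap k k')) := by
  classical
  choose D hD using fun e => exists_kerBound.{u} N e (1 + L * e) δ
  refine ⟨(Finset.range (d + 1)).sup D, fun k k' _ _ _ _ hd h hh => ?_⟩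
  set e := Module.finrank k k'
  let β : Module.Basis (Fin e) k k' := Module.finBasis k k'
  let P := MvPolynomial (Fin N) k
  let co : Fin e → (MvPolynomial (Fin N) k' → P) := fun i => mapCoeff (β.coord i).toAddMonoidHom
  have hco : ∀ i p α, coeff α (co i p) = β.repr (coeff α p) i := fun i p α => coeff_mapCoeff _ p α
  let colin : Fin e → MvPolynomial (Fin N) k' →ₗ[k] P := fun i =>
    { toFun := co i
      map_add' := fun p q => by ext α; rw [coeff_add, hco, hco, hco, coeff_add, map_add]; rfl
      map_smul' := fun c p => by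
        ext α
        rw [RingHom.id_apply, coeff_smul, hco, hco, coeff_smul, map_smul]
        rfl }
  have hcomul : ∀ i (z : P) p, co i (map (algebraMap k k') z * p) = z * co i p := fun i z p => by
    induction z using MvPolynomial.induction_on' with
    | add z w hz hw =>
      rw [map_add, add_mul, add_mul, ← hz, ← hw]
      exact (colin i).map_add _ _
    | monomial γ t =>
      ext α
      rw [hco, map_monomial, coeff_monomial_mul', coeff_monomial_mul']
      split_ifs with hle
      · rw [hco, ← Algebra.smul_def]; simp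
      · simp
  have hcodeg : ∀ i p, (co i p).totalDegree ≤ p.totalDegree := fun i p =>
    Finset.sup_mono fun α hα => by
      rw [mem_support_iff, hco] at hα
      exact mem_support_iff.2 fun h0 => hα (by rw [h0]; simp)
  have hdecomp : ∀ p : MvPolynomial (Fin N) k', p = ∑ i, map (algebraMap k k') (co i p) * C (β i) := fun p => by
    ext α
    rw [coeff_sum]
    conv_lhs => rw [← β.sum_repr (coeff α p)]
    exact Finset.sum_congr rfl fun i _ => by
      rw [mul_comm, coeff_C_mul, coeff_map, hco, Algebra.smul_def, mul_comm]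
  let idx : Fin 1 ⊕ (Fin L × Fin e) ≃ Fin (1 + L * e) := (Equiv.sumCongr (Equiv.refl _) finProdFinEquiv).trans finSumFinEquiv
  let v : Fin 1 ⊕ (Fin L × Fin e) → MvPolynomial (Fin N) k' := Sum.elim (fun _ => 1) fun lt => -(C (β lt.2) * h lt.1)
  let M : Matrix (Fin e) (Fin (1 + L * e)) P := fun i j => co i (v (idx.symm j))
  have hMdeg : ∀ i j, (M i j).totalDegree ≤ δ := fun i j => (hcodeg i _).trans (by
    generalize idx.symm j = x
    rcases x with x | ⟨l, t⟩
    · simp [v]
    · simp only [v, Sum.elim_inr, totalDegree_neg]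
      exact (totalDegree_mul _ _).trans (by rw [totalDegree_C, zero_add]; exact hh l))
  let val : (Fin (1 + L * e) → P) → MvPolynomial (Fin N) k' := fun z =>
    ∑ x, map (algebraMap k k') (z (idx x)) * v x
  have hMv : ∀ z i, M.mulVec z i = co i (val z) := fun z i => by
    rw [show co i (val z) = colin i (val z) from rfl, map_sum]
    simp only [Matrix.mulVec, dotProduct]
    rw [← idx.sum_comp]
    refine Finset.sum_congr rfl fun x _ => ?_
    show M i (idx x) * z (idx x) = co i _
    rw [hcomul, mul_comm]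
    simp [M]
  have hker : ∀ z, M.mulVec z = 0 ↔ val z = 0 := fun z => by
    refine ⟨fun h0 => ?_, fun h0 => funext fun i => ?_⟩
    · rw [hdecomp (val z)]
      exact Finset.sum_eq_zero fun i _ => by rw [← hMv, h0]; simp
    · rw [hMv, h0]
      exact (colin i).map_zero
  let i₀ := idx (Sum.inl 0)
  have hval : ∀ z, val z = map (algebraMap k k') (z i₀) -
      ∑ lt : Fin L × Fin e, map (algebraMap k k') (z (idx (Sum.inr lt))) * C (β lt.2) * h lt.1 := fun z => by
    simp only [val, Fintype.sum_sum_type, Finset.univ_unique, Finset.sum_singleton, v, Sum.elim_inl, Sum.elim_inr,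
      mul_one, sub_eq_add_neg, ← Finset.sum_neg_distrib, i₀]
    congr 1
    exact Finset.sum_congr rfl fun _ _ => by ring
  let J := (Ideal.span (Set.range h)).comap (map (algebraMap k k') : P →+* _)
  have hz : ∀ z, M.mulVec z = 0 → z i₀ ∈ J := fun z hz => by
    have := (hker z).1 hz
    rw [hval, sub_eq_zero] at this
    rw [Ideal.mem_comap, this]
    exact Ideal.sum_mem _ fun lt _ => Ideal.mul_mem_left _ _ (Ideal.subset_span ⟨_, rfl⟩)
  set T := {z : Fin (1 + L * e) → P | (∀ j, (z j).totalDegree ≤ D e) ∧ M.mulVec z = 0}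
  refine ⟨(fun z => z i₀) '' T, ?_, le_antisymm (Ideal.span_le.2 ?_) fun x hx => ?_⟩
  · rintro _ ⟨z, hz, rfl⟩
    exact (hz.1 i₀).trans (Finset.le_sup (Finset.mem_range.2 (Nat.lt_succ_of_le hd)))
  · rintro _ ⟨z, hz', rfl⟩
    exact hz z hz'.2
  · obtain ⟨cf, hcf⟩ := Ideal.mem_span_range_iff_exists_fun.1 (Ideal.mem_comap.1 hx)
    let z : Fin (1 + L * e) → P := fun j => Sum.elim (fun _ => x) (fun lt => co lt.2 (cf lt.1)) (idx.symm j)
    have hz0 : M.mulVec z = 0 := (hker z).2 (by
      rw [hval, sub_eq_zero]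
      simp only [z, i₀, Equiv.symm_apply_apply, Sum.elim_inl, Sum.elim_inr]
      rw [← hcf, Fintype.sum_prod_type]
      refine Finset.sum_congr rfl fun l _ => ?_
      conv_lhs => rw [hdecomp (cf l), Finset.sum_mul]
      )
    have hmem := hD e k M hMdeg z hz0
    have hx' : z i₀ ∈ Ideal.span ((fun z => z i₀) '' T) := by
      have := Submodule.mem_map_of_mem (f := LinearMap.proj (R := P) (φ := fun _ => P) i₀) hmem
      rw [Submodule.map_span] at this
      exact this
    simpa [z, i₀] using hx'

theorem radBounded_generic (G : Fin s → MvPolynomial (Fin N) A) :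
    ∃ f : A, f ≠ 0 ∧ ∃ D, ∀ (k : Type u) [Field k] (φ : A →+* k), φ f ≠ 0 →
      RadBounded k (fun j => map φ (G j)) D := by
  classical
  obtain ⟨A', _, _, _, _, hinj, L, h, f', hf', hA'⟩ := exists_radical_model G
  haveI : Algebra.IsIntegral A A' := Algebra.IsIntegral.of_finite _ _
  obtain ⟨f, hf, hf0⟩ := Submodule.exists_mem_ne_zero_of_ne_bot
    (Ideal.comap_ne_bot_of_integral_mem hf' (Ideal.mem_span_singleton_self f') (Algebra.IsIntegral.isIntegral (R := A) f'))
  obtain ⟨D, hD⟩ := exists_comapBound.{u} N L (Module.Finite.exists_fin (R := A) (M := A')).choose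
    (Finset.univ.sup fun l => (h l).totalDegree)
  refine ⟨f, hf0, D, fun k _ φ hφ => ?_⟩
  obtain ⟨k', _, _, φ', _, hdim, hφ'⟩ := exists_point hinj k φ
  obtain ⟨w, hw⟩ := Ideal.mem_span_singleton'.1 hf
  have hf'φ : φ' f' ≠ 0 := fun h0 => hφ ((algebraMap k k').injective (by
    rw [map_zero, ← hφ', ← hw, map_mul, h0, mul_zero]))
  obtain ⟨S', h1, h2⟩ := hD k k' hdim (fun l => map φ' (h l)) fun l =>
    (totalDegree_map_le' φ' (h l)).trans (Finset.le_sup (f := fun l => (h l).totalDegree) (Finset.mem_univ l))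
  refine ⟨S', h1, h2.trans ?_⟩
  have hcomp : ∀ j, map φ' (map (algebraMap A A') (G j)) = map (algebraMap k k') (map φ (G j)) := fun j => by
    rw [map_map, map_map]
    exact congrArg (fun g => map g (G j)) (RingHom.ext hφ')
  rw [hA' k' φ' hf'φ, Ideal.comap_radical]
  simp only [hcomp]
  congr 1
  refine le_antisymm (fun x hx => ?_) (Ideal.span_le.2 ?_)
  · obtain ⟨cf, hcf⟩ := Ideal.mem_span_range_iff_exists_fun.1 (Ideal.mem_comap.1 hx)
    obtain ⟨ρ, hρ⟩ := (Algebra.linearMap k k').exists_leftInverse_of_injective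
      (LinearMap.ker_eq_bot.2 (algebraMap k k').injective)
    let R : MvPolynomial (Fin N) k' →+ MvPolynomial (Fin N) k :=
      { toFun := mapCoeff ρ.toAddMonoidHom
        map_zero' := by simp [mapCoeff]
        map_add' := fun p q => by ext β; simp [coeff_mapCoeff] }
    have hR : ∀ p β, coeff β (R p) = ρ (coeff β p) := fun p β => coeff_mapCoeff _ p β
    have hρ1 : ∀ t, ρ (algebraMap k k' t) = t := fun t => LinearMap.congr_fun hρ t
    have hRmul : ∀ p (g : MvPolynomial (Fin N) k), R (p * map (algebraMap k k') g) = R p * g := fun p g => by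
      ext β
      simp only [hR, coeff_mul, coeff_map, map_sum]
      refine Finset.sum_congr rfl fun x _ => ?_
      rw [mul_comm, ← Algebra.smul_def, map_smul, smul_eq_mul, mul_comm]
    have hx2 : R (map (algebraMap k k') x) = x := by ext β; rw [hR, coeff_map, hρ1]
    rw [← hx2, ← hcf, map_sum]
    exact Ideal.sum_mem _ fun j _ => by
      rw [hRmul]; exact Ideal.mul_mem_left _ _ (Ideal.subset_span ⟨j, rfl⟩)
  · rintro _ ⟨j, rfl⟩
    exact Ideal.mem_comap.2 (Ideal.subset_span ⟨j, rfl⟩)

theorem exists_radBound (N s m : ℕ) : ∃ D, ∀ (k : Type u) [Field k] (g : Fin s → MvPolynomial (Fin N) k),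
    (∀ j, (g j).totalDegree ≤ m) → RadBounded k g D := by
  obtain ⟨A, _, _, G, hG⟩ := exists_universal.{u} (Fin s) N m
  obtain ⟨D, hD⟩ := bound_of_generic (A := A) (fun k _ φ D => RadBounded k (fun j => map φ (G j)) D)
    (fun k _ φ D D' h hM => hM.mono h) fun J hJ => by
      obtain ⟨f, hf, D, hD⟩ := radBounded_generic (A := A ⧸ J) (fun j => map (Ideal.Quotient.mk J) (G j))
      obtain ⟨f, rfl⟩ := Ideal.Quotient.mk_surjective f
      refine ⟨f, fun h => hf (Ideal.Quotient.eq_zero_iff_mem.2 h), D, fun k _ φ hJφ hfφ => ?_⟩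
      have := hD k (Ideal.Quotient.lift J φ fun x hx => RingHom.mem_ker.1 (hJφ hx)) hfφ
      simpa [map_map, Ideal.Quotient.lift_comp_mk] using this
  refine ⟨D, fun k _ g hg => ?_⟩
  obtain ⟨φ, hφ⟩ := hG k g hg
  simpa [hφ] using hD k φ

end Groth.Agent.RadBoundLib
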